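import Mathlib.RingTheory.GradedAlgebra.Basic
import Mathlib.RingTheory.Derivation.Basic
import Mathlib.RingTheory.Ideal.Maximal

/-! A homogeneous derivation of a graded algebra hits `1` when it has no fixed point. -/

universe u v w

open DirectSum

namespace Groth.L28.GradedDer

theorem exists_eq_one {k : Type u} [CommRing k] {A : Type v} [CommRing A] [Algebra k A]
    {Λ : Type w} [AddCommGroup Λ] [DecidableEq Λ] (𝒜 : Λ → Submodule k A) [GradedAlgebra 𝒜]
    (hpos : ∀ w : Λ, 𝒜 w ≠ ⊥ → 𝒜 (-w) ≠ ⊥ → w = 0)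
    (δ : Derivation k A A) (d : Λ) (hhom : ∀ (w : Λ) (a : A), a ∈ 𝒜 w → δ a ∈ 𝒜 (w + d)) (hd : 𝒜 d = ⊥)
    (hfix : ∀ m : Ideal A, m.IsMaximal → (∀ w : Λ, w ≠ 0 → (𝒜 w : Set A) ⊆ m) → ¬ (Set.range δ ⊆ m)) :
    ∃ s ∈ 𝒜 (-d), δ s = 1 := by
  classical
  let J : Ideal A := Ideal.span (Set.range δ ∪ ⋃ w ∈ {w : Λ | w ≠ 0}, (𝒜 w : Set A))
  have hJ : J = ⊤ := by
    by_contra h
    obtain ⟨m, hm, hle⟩ := Ideal.exists_le_maximal J h
    refine hfix m hm (fun w hw a ha => hle (Ideal.subset_span (Or.inr (Set.mem_biUnion hw ha))))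
      (fun a ha => hle (Ideal.subset_span (Or.inl ha)))
  let T : Submodule k A := (𝒜 (-d)).map δ.toLinearMap
  let P : A →+ A :=
    { toFun := fun x => (decompose 𝒜 x 0 : A)
      map_zero' := by simp
      map_add' := fun x y => by simp }
  have hP : ∀ (w : Λ) (x : A), x ∈ 𝒜 w → P x = if w = 0 then x else 0 := fun w x hx => by
    show (decompose 𝒜 x 0 : A) = _
    split_ifs with h
    · subst h; exact decompose_of_mem_same 𝒜 hx
    · exact decompose_of_mem_ne 𝒜 hx h
  have hsum : ∀ x : A, ∃ s : Finset Λ, x = ∑ w ∈ s, (decompose 𝒜 x w : A) :=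
    fun x => ⟨_, (sum_support_decompose 𝒜 x).symm⟩
  have hzero : ∀ (w : Λ), w ≠ 0 → ∀ x ∈ 𝒜 w, ∀ y ∈ 𝒜 (-w), x * y = 0 := fun w hw x hx y hy => by
    rcases eq_or_ne (𝒜 w) ⊥ with h | h
    · rw [h, Submodule.mem_bot] at hx; rw [hx, zero_mul]
    · have h2 : 𝒜 (-w) = ⊥ := by_contra fun h' => hw (hpos w h h')
      rw [h2, Submodule.mem_bot] at hy; rw [hy, mul_zero]
  have hgen : ∀ x ∈ Set.range δ ∪ ⋃ w ∈ {w : Λ | w ≠ 0}, (𝒜 w : Set A),
      ∀ (j : Λ) (c : A), c ∈ 𝒜 j → P (c * x) ∈ T := by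
    intro x hx j c hc
    rcases hx with ⟨b, rfl⟩ | hx
    · obtain ⟨s, hs⟩ := hsum b
      rw [hs, map_sum, Finset.mul_sum, map_sum]
      refine Submodule.sum_mem _ fun i _ => ?_
      have hb := (decompose 𝒜 b i).2
      rw [hP (j + (i + d)) _ (SetLike.mul_mem_graded hc (hhom i _ hb))]
      split_ifs with h
      · rcases eq_or_ne j 0 with rfl | hj
        · have hi : i = -d := eq_neg_of_add_eq_zero_left (by simpa using h)
          have hc0 : δ c = 0 := by
            have := hhom 0 c hc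
            rwa [zero_add, hd, Submodule.mem_bot] at this
          refine ⟨c * (decompose 𝒜 b i : A), ?_, ?_⟩
          · rw [← hi]
            simpa using SetLike.mul_mem_graded hc hb
          · show δ (c * _) = _
            rw [Derivation.leibniz, hc0, smul_zero, add_zero, smul_eq_mul]
        · have hneg : i + d = -j := eq_neg_of_add_eq_zero_right h
          rw [hzero j hj c hc _ (hneg ▸ hhom i _ hb)]
          exact zero_mem _
      · exact zero_mem _
    · obtain ⟨w, hw, hx⟩ := Set.mem_iUnion₂.1 hx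
      rw [hP (j + w) _ (SetLike.mul_mem_graded hc hx)]
      split_ifs with h
      · have hj : j = -w := eq_neg_of_add_eq_zero_left h
        subst hj
        rw [mul_comm, hzero w hw x hx c hc]
        exact zero_mem _
      · exact zero_mem _
  have hmain : ∀ x ∈ J, ∀ c : A, P (c * x) ∈ T := by
    intro x hx
    induction hx using Submodule.span_induction with
    | mem x hx =>
      intro c
      obtain ⟨s, hs⟩ := hsum c
      rw [hs, Finset.sum_mul, map_sum]
      exact Submodule.sum_mem _ fun j _ => hgen x hx j _ (decompose 𝒜 c j).2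
    | zero => intro c; rw [mul_zero, map_zero]; exact zero_mem _
    | add x y _ _ hx hy => intro c; rw [mul_add, map_add]; exact add_mem (hx c) (hy c)
    | smul a x _ hx => intro c; rw [smul_eq_mul, ← mul_assoc]; exact hx _
  have h1 := hmain 1 (hJ ▸ Submodule.mem_top) 1
  rw [one_mul, hP 0 1 (SetLike.one_mem_graded 𝒜), if_pos rfl] at h1
  exact h1

end Groth.L28.GradedDer
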